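import Cfsg.Agent.BZ.L.B3.Lat
import Cfsg.Agent.BZ.L.K3.Fo4
import Cfsg.Agent.BZ.L.K3.LS
import Cfsg.Agent.BZ.L.K3.Fin2

/-!
# BZ / B3 : the lattice lemma for `E₈`, `l = 5` (helper14)
-/

set_option autoImplicit false

namespace Cfsg.Agent.BZ.B3

open Cfsg.Agent.KZ.DatX

theorem boxFour : BoxFour := fun _ _ _ _ _ _ ss ty h L => K3.F4x.lat_four ss ty h L

/-- **`E₈`, `l = 5`** -/
theorem lat_e85 : K3.Lat hpE8 5 := lat_e85_of boxFour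

/-- all the lattice lemmas from the case `E₆` -/
theorem lats_of (e6 : K3.Lat hpE6 3) : K3.Lats := ⟨K3.LS.lat2_g2, K3.LS.lat3_d4, K3.LS.lat2_f4, e6, lat_e7, lat_e8, lat_e85⟩

end Cfsg.Agent.BZ.B3
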