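import Cfsg.Agent.HZ.L.E7.Fr

/-!
# BZ / B3 : isometries of odd prime order on the Levi sublattices of `E₈` (helper14)

* `Is`, `Cl`, `Act`, `Ro`, `La` : the statement; `Fm`, `Sm`, `Sp` : the three kinds of sublattices;
* `Sm.la`, `Sp.la`.
-/

set_option autoImplicit false
set_option linter.unusedSectionVars false

namespace Cfsg.Agent.BZ.B3

open Cfsg Cfsg.Agent.HZ.L.E7 Cfsg.Agent.Tits.Roots Matrix

/-- the endomorphisms -/
abbrev En : Type := Module.End ℤ V

/-- isometries -/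
def Is (g : En) : Prop := ∀ a b, bf (g a) (g b) = bf a b

/-- `U` is cut out by roots -/
def Cl (U : Submodule ℤ V) : Prop := ∀ v, (∀ r, Rt r → (∀ u ∈ U, bf r u = 0) → bf r v = 0) → v ∈ U

/-- `g` acts on `U` with order dividing `l` -/
structure Act (l : ℕ) (U : Submodule ℤ V) (g : En) : Prop where
  is : Is g
  mem : ∀ u ∈ U, g u ∈ U
  pow : ∀ u ∈ U, (g ^ l) u = u

/-- a rotation -/
structure Ro (l : ℕ) (U : Submodule ℤ V) (g : En) (b : ZMod l → V) : Prop where
  rt : ∀ i, Rt (b i)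
  one : ∀ i j, i ≠ j → bf (b i) (b j) = 1
  mem : ∀ i, b i ∈ U
  act : ∀ i, g (b i) = b (i + 1)
  lv : ∀ a, Rt a → (∀ i j, a ≠ b i - b j) → (∃ u ∈ U, bf a u ≠ 0) → ∃ y ∈ U, (∀ i j, bf (b i - b j) y = 0) ∧ bf a y ∣ 4

/-- **the lattice lemma** -/
def La (l : ℕ) (U : Submodule ℤ V) : Prop := ∃ x ∈ U, ∀ g, Act l U g → (∀ v, (l : ℤ) ∣ bf (g x - x) v) →
  (∀ u ∈ U, g u = u) ∨ ∃ b, Ro l U g b

/-- a good vector of norm four -/
structure Fm (U : Submodule ℤ V) (x : V) : Prop where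
  mem : x ∈ U
  four : bf x x = 4
  ex : ∃ a, Rt a ∧ bf a x = 2
  good : ∃ c : Fin 5 → V, ∀ a, Rt a → bf a x = 2 → a ∈ U ∨ ∃ k, ∀ u ∈ U, bf a u = bf (c k) u

/-- rank at most two -/
def Sm (U : Submodule ℤ V) : Prop := ∃ p q, ∀ u ∈ U, bf p u = 0 → bf q u = 0 → u = 0

/-- the lattice `A₂ + (6)` -/
def Sp (U : Submodule ℤ V) : Prop := ∃ x ∈ U, ∃ a ∈ U, ∃ z, Rt x ∧ Rt a ∧ bf a x = 1 ∧
  (∀ b ∈ U, Rt b → bf b x = 1 → b = a ∨ b = x - a) ∧ ∀ u ∈ U, bf x u = 0 → bf a u = 0 → bf z u = 0 → u = 0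

theorem bf_nonneg (x : V) : 0 ≤ bf x x := by
  by_contra h
  rw [eq_zero_of_bf (not_le.1 h).le, bf_zero_left] at h
  exact h le_rfl

theorem bf_even (x : V) : 2 ∣ bf x x := by
  refine ⟨x 0 ^ 2 + x 1 ^ 2 + x 2 ^ 2 + x 3 ^ 2 + x 4 ^ 2 + x 5 ^ 2 + x 6 ^ 2 + x 7 ^ 2 - x 0 * x 2 - x 1 * x 3 - x 2 * x 3 -
    x 3 * x 4 - x 4 * x 5 - x 5 * x 6 - x 6 * x 7, ?_⟩
  simp [bf, C8, dotProduct, mulVec, Fin.sum_univ_eight]
  ring

theorem two_le {x : V} (h : x ≠ 0) : 2 ≤ bf x x := by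
  have h1 := bf_even x
  have h2 : 0 < bf x x := not_le.1 fun e => h (eq_zero_of_bf e)
  omega

theorem bf_sum' {ι : Type} (s : Finset ι) (c : V) (f : ι → V) : bf c (∑ i ∈ s, f i) = ∑ i ∈ s, bf c (f i) :=
  map_sum (AddMonoidHom.mk' (bf c) fun a b => bf_add_right a b c) f s

theorem eq_of_two {a b : V} (ha : Rt a) (hb : Rt b) (h : bf a b = 2) : a = b := by
  by_contra e
  have := ha.le_one hb e
  omega

variable {l : ℕ} {U : Submodule ℤ V} {g : En} {x : V}

theorem Is.pow (h : Is g) (k : ℕ) : Is (g ^ k) := fun a b => by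
  induction k with
  | zero => rfl
  | succ k ih => rw [pow_succ', Module.End.mul_apply, Module.End.mul_apply, h, ih]

theorem Is.rt (h : Is g) {a : V} (ha : Rt a) : Rt (g a) := (h a a).trans ha

theorem Is.inj (h : Is g) : Function.Injective g := fun a b e => sub_eq_zero.1 (eq_zero_of_bf (by
  rw [← h, map_sub, e, sub_self, bf_zero_left]))

theorem Is.le (h : Is g) (x : V) : bf (g x - x) (g x - x) ≤ 4 * bf x x := by
  have h1 := bf_nonneg (g x + x)
  simp only [bf_add_left, bf_add_right, bf_sub_left, bf_sub_right, h x x] at h1 ⊢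
  omega

theorem pow_fix (h : g x = x) (k : ℕ) : (g ^ k) x = x := by
  induction k with
  | zero => rfl
  | succ k ih => rw [pow_succ, Module.End.mul_apply, h, ih]

/-- short vectors are fixed -/
theorem Is.fix (h : Is g) (hl : 3 ≤ l) (hx : bf x x ≤ 4) (e : ∀ v, (l : ℤ) ∣ bf (g x - x) v) : g x = x := by
  obtain ⟨y, hy⟩ := exists_dvd e
  have h1 := h.le x
  by_cases h0 : y = 0
  · rwa [h0, smul_zero, sub_eq_zero] at hy
  · rw [hy, bf_smul_left, bf_smul_right] at h1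
    have h2 := two_le h0
    have h3 : (3 : ℤ) ≤ l := by exact_mod_cast hl
    nlinarith [mul_le_mul h3 h3 (by norm_num) (by omega)]

namespace Act

variable (A : Act l U g)
include A

theorem pow_mem (k : ℕ) {u : V} (hu : u ∈ U) : (g ^ k) u ∈ U := by
  induction k with
  | zero => exact hu
  | succ k ih => rw [pow_succ', Module.End.mul_apply]; exact A.mem _ ih

theorem pow_mul (t : ℕ) {u : V} (hu : u ∈ U) : (g ^ (l * t)) u = u := by
  rw [_root_.pow_mul]
  exact pow_fix (A.pow u hu) t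

theorem pow_mod (k : ℕ) {u : V} (hu : u ∈ U) : (g ^ (k % l)) u = (g ^ k) u := by
  conv_rhs => rw [← Nat.mod_add_div k l, pow_add, Module.End.mul_apply, A.pow_mul _ hu]

theorem iter {Y : V} {m : ℕ} {η : ℤ} (h : ∀ u ∈ U, bf Y ((g ^ m) u) = η * bf Y u) (t : ℕ) :
    ∀ u ∈ U, bf Y ((g ^ (m * t)) u) = η ^ t * bf Y u := by
  induction t with
  | zero => exact fun u _ => by rw [mul_zero, pow_zero, pow_zero, one_mul, Module.End.one_apply]
  | succ t ih => exact fun u hu => by rw [Nat.mul_succ, pow_add, Module.End.mul_apply, ih _ (A.pow_mem m hu), h u hu, pow_succ, mul_assoc]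

theorem fx1 (hl : l.Prime) {Y : V} {m : ℕ} (h0 : 0 < m) (hm : m < l) (h : ∀ u ∈ U, bf Y ((g ^ m) u) = bf Y u) :
    ∀ u ∈ U, bf Y (g u) = bf Y u := fun u hu => by
  obtain ⟨t, -, ht⟩ := Nat.exists_mul_mod_eq_one_of_coprime ((Nat.coprime_of_lt_prime h0.ne' hm hl).symm) hl.one_lt
  have h1 := A.iter (η := 1) (fun u hu => (h u hu).trans (one_mul _).symm) t u hu
  rwa [← A.pow_mod _ hu, ht, pow_one, one_pow, one_mul] at h1

theorem fx2 (hl : Odd l) {Y : V} {m : ℕ} (h : ∀ u ∈ U, bf Y ((g ^ m) u) = -bf Y u) : ∀ u ∈ U, bf Y u = 0 := fun u hu => by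
  have h1 := A.iter (η := -1) (fun u hu => (h u hu).trans (neg_one_mul _).symm) l u hu
  rw [mul_comm m, A.pow_mul _ hu, hl.neg_one_pow] at h1
  omega

theorem of_mem (hl : 0 < l) {a : V} (h : g a ∈ U) : a ∈ U := by
  obtain ⟨k, rfl⟩ := Nat.exists_eq_succ_of_ne_zero hl.ne'
  have h1 := A.pow _ h
  rw [pow_succ', Module.End.mul_apply] at h1
  exact A.is.inj h1 ▸ A.pow_mem k h

/-- the moved part has rank at most one -/
theorem triv (hl : Odd l) (S : V → Prop) (hS : ∀ u ∈ U, S (g u - u))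
    (h1 : ∀ v ∈ U, ∀ v' ∈ U, S v → S v' → v ≠ 0 → ∃ c c' : ℤ, c ≠ 0 ∧ c • v' = c' • v) : ∀ u ∈ U, g u = u := fun u hu => by
  by_contra h0
  have h2 := A.mem u hu
  have h3 := U.sub_mem h2 hu
  obtain ⟨c, c', hc, e⟩ := h1 _ h3 _ (A.mem _ h3) (hS u hu) (by rw [map_sub]; exact hS _ h2) (sub_ne_zero.2 h0)
  have h4 := congrArg (fun v => bf v v) e
  simp only [bf_smul_left, bf_smul_right, A.is _ _] at h4
  have h5 := two_le (sub_ne_zero.2 h0)
  have h6 : c' = c ∨ c' = -c := mul_self_eq_mul_self_iff.1 (mul_right_cancel₀ (b := bf (g u - u) (g u - u)) (by omega) (by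
    rw [mul_assoc, mul_assoc, h4]))
  rcases h6 with rfl | rfl
  · have h7 := smul_right_injective _ hc e
    have h8 : ∀ k : ℕ, (g ^ k) u = u + (k : ℤ) • (g u - u) := fun k => by
      induction k with
      | zero => simp
      | succ k ih =>
        rw [pow_succ', Module.End.mul_apply, ih, map_add, map_smul, h7, Nat.cast_succ, add_smul, one_smul]
        abel
    have h9 := h8 l
    rw [A.pow u hu, left_eq_add, smul_eq_zero, sub_eq_zero] at h9
    exact h9.elim (fun e => by exact_mod_cast hl.pos.ne' (by exact_mod_cast e)) h0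
  · rw [neg_smul, ← smul_neg] at e
    have h7 := smul_right_injective _ hc e
    have h8 : ∀ k : ℕ, (g ^ k) (g u - u) = (-1 : ℤ) ^ k • (g u - u) := fun k => by
      induction k with
      | zero => simp
      | succ k ih => rw [pow_succ', Module.End.mul_apply, ih, map_smul, h7, pow_succ, mul_neg_one, neg_smul, smul_neg]
    have h9 := congrArg (bf (g u - u)) (h8 l)
    rw [A.pow _ h3, hl.neg_one_pow, bf_smul_right] at h9
    omega

end Act

theorem Cl.sat (h : Cl U) {n : ℤ} (hn : n ≠ 0) {y : V} (hy : n • y ∈ U) : y ∈ U := h y fun r _ e => by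
  have h1 := e _ hy
  rw [bf_smul_right] at h1
  exact (mul_eq_zero.1 h1).resolve_left hn

theorem Sm.la (h : Sm U) (cl : Cl U) (hl : Odd l) (h3 : 3 ≤ l) : La l U := by
  classical
  obtain ⟨p, q, h⟩ := h
  by_cases h0 : ∃ n : ℕ, ∃ x ∈ U, x ≠ 0 ∧ bf x x = n
  swap
  · refine ⟨0, U.zero_mem, fun g _ _ => .inl fun u hu => ?_⟩
    obtain rfl : u = 0 := by_contra fun e => h0 ⟨_, u, hu, e, (Int.toNat_of_nonneg (bf_nonneg u)).symm⟩
    exact map_zero g
  obtain ⟨x, hx, x0, hn⟩ := Nat.find_spec h0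
  refine ⟨x, hx, fun g A e => .inl ?_⟩
  have h1 : g x = x := by
    obtain ⟨y, hy⟩ := exists_dvd e
    by_cases y0 : y = 0
    · rwa [y0, smul_zero, sub_eq_zero] at hy
    have h4 : (3 : ℤ) ≤ l := by exact_mod_cast h3
    have h5 := Nat.find_min' h0 ⟨y, cl.sat (n := l) (by omega) (hy ▸ U.sub_mem (A.mem x hx) hx), y0,
      (Int.toNat_of_nonneg (bf_nonneg y)).symm⟩
    have h6 := A.is.le x
    have h7 := two_le y0
    have h8 : bf x x ≤ bf y y := by omega
    rw [hy, bf_smul_left, bf_smul_right] at h6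
    nlinarith [mul_le_mul h4 h4 (by norm_num) (by omega)]
  refine A.triv hl (bf x · = 0) (fun u _ => by rw [bf_sub_right, ← A.is x u, h1, sub_self]) fun v hv v' hv' e1 e2 v0 => ?_
  have h4 := h ((bf p v * bf q v' - bf q v * bf p v') • x + (bf p v' * bf q x - bf q v' * bf p x) • v +
    (bf p x * bf q v - bf q x * bf p v) • v') (U.add_mem (U.add_mem (U.smul_mem _ hx) (U.smul_mem _ hv)) (U.smul_mem _ hv'))
    (by simp only [bf_add_right, bf_smul_right]; ring) (by simp only [bf_add_right, bf_smul_right]; ring)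
  have h5 := congrArg (bf x) h4
  simp only [bf_add_right, bf_smul_right, e1, e2, mul_zero, add_zero, bf_zero_right] at h5
  have h6 := (mul_eq_zero.1 h5).resolve_right (by have := two_le x0; omega)
  by_cases h7 : bf p v = 0
  · refine ⟨bf q v, bf q v', fun e => v0 (h v hv h7 e), sub_eq_zero.1 (h _ (U.sub_mem (U.smul_mem _ hv') (U.smul_mem _ hv)) ?_ ?_)⟩ <;>
      simp only [bf_sub_right, bf_smul_right]
    exacts [by linear_combination -h6, by ring]
  · refine ⟨bf p v, bf p v', h7, sub_eq_zero.1 (h _ (U.sub_mem (U.smul_mem _ hv') (U.smul_mem _ hv)) ?_ ?_)⟩ <;>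
      simp only [bf_sub_right, bf_smul_right]
    exacts [by ring, by linear_combination h6]

theorem Sp.la (h : Sp U) (hl : l.Prime) (h3 : 3 ≤ l) : La l U := by
  obtain ⟨x, hx, a, ha, z, rx, ra, e1, h1, h2⟩ := h
  refine ⟨x, hx, fun g A e => .inl ?_⟩
  have h4 : g x = x := A.is.fix h3 (by rw [rx]; norm_num) e
  have h5 : g a = a := by
    refine (h1 _ (A.mem a ha) (A.is.rt ra) (by rw [← h4, A.is, e1])).elim id fun e2 => ?_
    have h6 : ∀ k : ℕ, (g ^ (2 * k)) a = a := fun k => by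
      rw [pow_mul]
      exact pow_fix (by rw [pow_two, Module.End.mul_apply, e2, map_sub, h4, e2, sub_sub_cancel]) k
    obtain ⟨k, rfl⟩ := hl.odd_of_ne_two (by omega)
    have h7 := A.pow a ha
    rwa [pow_succ', Module.End.mul_apply, h6] at h7
  refine A.triv (hl.odd_of_ne_two (by omega)) (fun v => bf x v = 0 ∧ bf a v = 0) (fun u _ => ⟨by
    rw [bf_sub_right, ← A.is x u, h4, sub_self], by rw [bf_sub_right, ← A.is a u, h5, sub_self]⟩) fun v hv v' hv' e1 e2 v0 => ?_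
  refine ⟨bf z v, bf z v', fun e => v0 (h2 v hv e1.1 e1.2 e), sub_eq_zero.1 (h2 _ (U.sub_mem (U.smul_mem _ hv') (U.smul_mem _ hv))
    ?_ ?_ ?_)⟩ <;> simp only [bf_sub_right, bf_smul_right, e1.1, e1.2, e2.1, e2.2] <;> ring

end Cfsg.Agent.BZ.B3
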