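import Cfsg.Agent.BZ.L.B3.LatA

/-!
# BZ / B3 : the frame of a vector of norm four (helper14)

`span4`, `exists_sub`, `bf_sg`, `sg_mem`, `lv_of`, `Fm.la`.
-/

set_option autoImplicit false
set_option linter.unusedSectionVars false

namespace Cfsg.Agent.BZ.B3

open Cfsg Cfsg.Agent.HZ.L.E7 Cfsg.Agent.Tits.Roots Matrix

variable {l : ℕ} {U : Submodule ℤ V} {g : En} {x : V}

/-- the roots of the frame -/
def Om (x a : V) : Prop := Rt a ∧ bf a x = 2

theorem Om.sub {a : V} (h : Om x a) (h4 : bf x x = 4) : Om x (x - a) := by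
  have h1 : bf a a = 2 := h.1
  have h2 := h.2
  simp only [Om, Rt, bf_sub_left, bf_sub_right, bf_comm x a]
  omega

theorem Om.one {a b : V} (ha : Om x a) (hb : Om x b) (h4 : bf x x = 4) (h1 : a ≠ b) (h2 : b ≠ x - a) : bf a b = 1 := by
  have h3 := ha.1.le_one hb.1 h1
  have h5 := (ha.sub h4).1.le_one hb.1 h2.symm
  rw [bf_sub_left, bf_comm x, hb.2] at h5
  omega

theorem span0 {v : V} (h : ∀ a, Rt a → a 0 = 2 → bf a v = 0) : v = 0 := by
  have h0 := h ![2, 3, 4, 6, 5, 4, 3, 2] (by unfold Rt; decide +kernel) rfl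
  have h1 := h ![2, 3, 4, 6, 5, 4, 3, 1] (by unfold Rt; decide +kernel) rfl
  have h2 := h ![2, 3, 4, 6, 5, 4, 2, 1] (by unfold Rt; decide +kernel) rfl
  have h3 := h ![2, 3, 4, 6, 5, 3, 2, 1] (by unfold Rt; decide +kernel) rfl
  have h4 := h ![2, 3, 4, 6, 4, 3, 2, 1] (by unfold Rt; decide +kernel) rfl
  have h5 := h ![2, 3, 4, 5, 4, 3, 2, 1] (by unfold Rt; decide +kernel) rfl
  have h6 := h ![2, 2, 4, 5, 4, 3, 2, 1] (by unfold Rt; decide +kernel) rfl
  have h7 := h ![2, 3, 3, 5, 4, 3, 2, 1] (by unfold Rt; decide +kernel) rfl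
  rw [bf_sum] at h0 h1 h2 h3 h4 h5 h6 h7
  refine eq_zero_of_sr ?_
  generalize (fun i => bf v (sr i)) = c at *
  simp only [Fin.sum_univ_eight, Matrix.cons_val] at h0 h1 h2 h3 h4 h5 h6 h7
  intro i
  fin_cases i <;> simp only [Fin.reduceFinMk, Fin.zero_eta, Fin.mk_one] <;> omega

/-- the frame spans -/
theorem span4 (h4 : bf x x = 4) {a : V} (ha : Om x a) {v : V} (h : ∀ b, Om x b → bf b v = 0) : v = 0 := by
  obtain ⟨w, e, h1⟩ := lex_th ha.1 (x - a)
  have h2 := (pair_eq ((ha.sub h4).1.ac w) h1).1 (by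
    rw [← bf_th (ac w (x - a)), ← e, bf_ac, bf_sub_left, bf_comm x, ha.2, show bf a a = 2 from ha.1, sub_self])
  have h3 : ∀ b, bf (ac w⁻¹ b) x = b 0 := fun b => by
    have h5 := h2 b
    rw [map_sub, e, bf_sub_right, bf_th] at h5
    rw [← bf_ac w, ac_inv']
    omega
  rw [← ac_inv w v, span0 (v := ac w v) fun b hb e => by
    rw [← h _ ⟨hb.ac w⁻¹, (h3 b).trans e⟩, ← bf_ac w⁻¹, ac_inv], map_zero]

/-- the roots which are orthogonal to `x` -/
theorem exists_sub (h4 : bf x x = 4) {a : V} (ha : Om x a) {r : V} (hr : Rt r) (h : bf r x = 0) :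
    ∃ c c', Om x c ∧ Om x c' ∧ r = c - c' := by
  have h0 : bf r r = 2 := hr
  obtain ⟨c, hc, e⟩ : ∃ c, Om x c ∧ 0 < bf c r := by
    by_contra! e
    rw [span4 h4 ha (v := r) fun b hb => by
      have h1 := e b hb
      have h2 := e _ (hb.sub h4)
      rw [bf_sub_left, bf_comm x, h] at h2
      omega, bf_zero_left] at h0
    omega
  have h1 := hc.1.le_one hr (by rintro rfl; have := hc.2; omega)
  have h2 : bf c c = 2 := hc.1
  refine ⟨c, c - r, hc, ⟨?_, by rw [bf_sub_left, hc.2, h, sub_zero]⟩, (sub_sub_cancel _ _).symm⟩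
  simp only [Rt, bf_sub_left, bf_sub_right, bf_comm r c]
  omega

open Classical in
/-- the sum of a part of the frame -/
noncomputable def sg (x : V) (P : V → Prop) : V := ∑ b ∈ finite_rt.toFinset with bf b x = 2 ∧ P b, ((2 : ℤ) • b - x)

open Classical in
theorem bf_sg (h4 : bf x x = 4) (P : V → Prop) {c : V} (hc : Om x c) :
    bf c (sg x P) = (if P c then 2 else 0) - if P (x - c) then 2 else 0 := by
  have h1 : ∀ d, Om x d → ∑ b ∈ finite_rt.toFinset with bf b x = 2 ∧ P b, (if d = b then (2 : ℤ) else 0) = if P d then 2 else 0 :=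
    fun d hd => by
      rw [Finset.sum_ite_eq]
      exact if_congr (by simp only [Finset.mem_filter, Set.Finite.mem_toFinset, Set.mem_ofPred_eq, hd.1, hd.2, true_and]) rfl rfl
  rw [sg, bf_sum', ← h1 c hc, ← h1 _ (hc.sub h4), ← Finset.sum_sub_distrib]
  refine Finset.sum_congr rfl fun b hb => ?_
  simp only [Finset.mem_filter, Set.Finite.mem_toFinset, Set.mem_ofPred_eq] at hb
  have h2 : bf c c = 2 := hc.1
  have h3 : bf c (x - c) = 0 := by rw [bf_sub_right, hc.2, h2, sub_self]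
  rw [bf_sub_right, bf_smul_right, hc.2]
  split_ifs with e1 e2 e2
  · rw [e2, ← e1] at h3
    omega
  · rw [← e1, h2]
    rfl
  · rw [← e2, h3]
    rfl
  · rw [hc.one ⟨hb.1, hb.2.1⟩ h4 e1 (Ne.symm e2)]
    rfl

theorem sg_mem (cl : Cl U) (F : Fm U x) {P : V → Prop}
    (h : ∀ c c', Om x c → Om x c' → (∀ u ∈ U, bf c u = bf c' u) → P c → P c') : sg x P ∈ U := cl _ fun r hr e => by
  classical
  obtain ⟨a, ha⟩ := F.ex
  obtain ⟨c, c', hc, hc', rfl⟩ := exists_sub F.four ha hr (e x F.mem)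
  have h1 : ∀ u ∈ U, bf c u = bf c' u := fun u hu => sub_eq_zero.1 ((bf_sub_left _ _ _).symm.trans (e u hu))
  have h2 : ∀ u ∈ U, bf (x - c) u = bf (x - c') u := fun u hu => by rw [bf_sub_left, bf_sub_left, h1 u hu]
  have h3 : P c ↔ P c' := ⟨h c c' hc hc' h1, h c' c hc' hc fun u hu => (h1 u hu).symm⟩
  have h4 : P (x - c) ↔ P (x - c') := ⟨h _ _ (hc.sub F.four) (hc'.sub F.four) h2,
    h _ _ (hc'.sub F.four) (hc.sub F.four) fun u hu => (h2 u hu).symm⟩
  rw [bf_sub_left, bf_sg F.four P hc, bf_sg F.four P hc', sub_eq_zero]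
  exact congrArg₂ (· - ·) (if_congr h3 rfl rfl) (if_congr h4 rfl rfl)

/-- the sum of a block -/
theorem blk (cl : Cl U) (F : Fm U x) {c c' : V} (hc : Om x c) (hc' : Om x c') (h1 : ¬ ∀ u ∈ U, bf (x - c) u = bf c u)
    (h2 : ¬ ∀ u ∈ U, bf c' u = bf c u) : ∃ y ∈ U, (∀ b ∈ U, Om x b → c ≠ b → c ≠ x - b → bf b y = 0) ∧ bf (c - c') y ∣ 4 := by
  classical
  refine ⟨sg x fun d => ∀ u ∈ U, bf d u = bf c u, sg_mem cl F fun d d' _ _ e e' u hu => (e u hu).symm.trans (e' u hu),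
    fun b hb hb' e1 e2 => ?_, ?_⟩
  · rw [bf_sg F.four _ hb', if_neg fun e => e1 (eq_of_two hc.1 hb'.1 ((e b hb).symm.trans hb'.1)),
      if_neg fun e => e2 (eq_of_two hc.1 (hb'.sub F.four).1 ((e _ (U.sub_mem F.mem hb)).symm.trans (hb'.sub F.four).1)), sub_self]
  · rw [bf_sub_left, bf_sg F.four _ hc, bf_sg F.four _ hc', if_pos fun _ _ => rfl, if_neg h1, if_neg h2]
    split_ifs <;> decide

theorem lv_of (cl : Cl U) (F : Fm U x) {ι : Type} {b : ι → V} (hb : ∀ i, Om x (b i)) (hU : ∀ i, b i ∈ U)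
    (hn : ∀ i j, x - b i ≠ b j) {r : V} (hr : Rt r) (h1 : ∀ i j, r ≠ b i - b j) (h2 : ∃ u ∈ U, bf r u ≠ 0) :
    ∃ y ∈ U, (∀ i j, bf (b i - b j) y = 0) ∧ bf r y ∣ 4 := by
  classical
  by_cases h0 : bf r x = 0
  swap
  · refine ⟨x, F.mem, fun i j => by rw [bf_sub_left, (hb i).2, (hb j).2, sub_self], ?_⟩
    have h3 := bf_nonneg ((2 : ℤ) • x - bf r x • r)
    simp only [bf_sub_left, bf_sub_right, bf_smul_left, bf_smul_right, F.four, show bf r r = 2 from hr, bf_comm x r] at h3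
    generalize bf r x = n at h0 h3
    have h4 : n ≤ 2 := by nlinarith
    have h5 : -2 ≤ n := by nlinarith
    interval_cases n <;> first | decide | exact absurd rfl h0
  obtain ⟨a, ha⟩ := F.ex
  obtain ⟨c, c', hc, hc', rfl⟩ := exists_sub F.four ha hr h0
  by_cases h3 : ((∃ i, c = b i) ∨ ∃ i, x - c = b i) ∨ (∃ i, c' = b i) ∨ ∃ i, x - c' = b i
  · have h4 : ∀ d, (∃ i, d = b i) → ¬ ∃ i, x - d = b i := by
      rintro _ ⟨i, rfl⟩ ⟨j, e⟩
      exact hn i j e
    refine ⟨sg x fun d => ∃ i, d = b i, sg_mem cl F ?_, fun i j => ?_, ?_⟩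
    · rintro _ d hd hd' e ⟨i, rfl⟩
      exact ⟨i, eq_of_two hd'.1 hd.1 ((e _ (hU i)).symm.trans hd.1)⟩
    · have h5 : ∀ i, bf (b i) (sg x fun d => ∃ i, d = b i) = 2 := fun i => by
        rw [bf_sg F.four _ (hb i), if_pos ⟨i, rfl⟩, if_neg (h4 _ ⟨i, rfl⟩), sub_zero]
      rw [bf_sub_left, h5, h5, sub_self]
    · have h5 : (∃ i, c = b i) → ¬ ∃ i, c' = b i := by
        rintro ⟨i, rfl⟩ ⟨j, rfl⟩
        exact h1 i j rfl
      have h6 : (∃ i, x - c = b i) → ¬ ∃ i, x - c' = b i := by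
        rintro ⟨i, e⟩ ⟨j, e'⟩
        exact h1 j i (by rw [← e, ← e']; abel)
      have h7 := h4 c
      have h8 := h4 c'
      rw [bf_sub_left, bf_sg F.four _ hc, bf_sg F.four _ hc']
      generalize (∃ i, c = b i) = p1, (∃ i, x - c = b i) = p2, (∃ i, c' = b i) = p3, (∃ i, x - c' = b i) = p4 at *
      split_ifs <;> first | decide | tauto
  simp only [not_or, not_exists] at h3
  obtain ⟨u, hu, h2⟩ := h2
  rw [bf_sub_left, sub_ne_zero] at h2
  have h4 : ∀ {d y : V}, (∀ i, ¬ d = b i) → (∀ i, ¬ x - d = b i) → (∀ e ∈ U, Om x e → d ≠ e → d ≠ x - e → bf e y = 0) →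
      ∀ i j, bf (b i - b j) y = 0 := fun e1 e2 e i j => by
    have h5 := fun i => e _ (hU i) (hb i) (e1 i) fun e3 => e2 i (by rw [e3, sub_sub_cancel])
    rw [bf_sub_left, h5, h5, sub_self]
  by_cases h5 : ∀ u ∈ U, bf (x - c) u = bf c u
  · obtain ⟨y, hy, e1, e2⟩ := blk cl F hc' hc (fun e => h2 (by
      have h6 := h5 u hu
      have h7 := e u hu
      rw [bf_sub_left] at h6 h7
      omega)) fun e => h2 (e u hu)
    exact ⟨y, hy, h4 h3.2.1 h3.2.2 e1, by rwa [← neg_sub, bf_neg_left, neg_dvd]⟩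
  · obtain ⟨y, hy, e1, e2⟩ := blk cl F hc hc' h5 fun e => h2 (e u hu).symm
    exact ⟨y, hy, h4 h3.1.1 h3.1.2 e1, e2⟩

theorem Fm.la (F : Fm U x) (cl : Cl U) (hl : l.Prime) (h3 : 3 ≤ l) : La l U := by
  refine ⟨x, F.mem, fun g A e => ?_⟩
  have hx : g x = x := A.is.fix h3 F.four.le e
  by_cases hT : ∀ a, Om x a → ∀ u ∈ U, bf a (g u) = bf a u
  · obtain ⟨a, ha⟩ := F.ex
    exact .inl fun u hu => sub_eq_zero.1 (span4 F.four ha fun b hb => by rw [bf_sub_right, hT b hb u hu, sub_self])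
  push Not at hT
  obtain ⟨a, ha, u, hu, hT⟩ := hT
  have o1 : ∀ k, Om x ((g ^ k) a) := fun k => ⟨(A.is.pow k).rt ha.1, by rw [← pow_fix hx k, A.is.pow, ha.2]⟩
  have o2 : ∀ i m : ℕ, ∀ u, bf ((g ^ i) a) ((g ^ (i + m)) u) = bf a ((g ^ m) u) := fun i m u => by
    rw [pow_add, Module.End.mul_apply, A.is.pow]
  have o3 : ∀ m u, bf x ((g ^ m) u) = bf x u := fun m u => by rw [← A.is.pow m x u, pow_fix hx]
  have k1 : ∀ i j, i < j → j < l → ¬ ∀ u ∈ U, bf ((g ^ i) a) u = bf ((g ^ j) a) u := fun i j h1 h2 e => by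
    obtain ⟨m, rfl⟩ := Nat.exists_eq_add_of_le h1.le
    exact hT (A.fx1 hl (m := m) (by omega) (by omega) (fun u hu => by rw [← o2 i, e _ (A.pow_mem _ hu), A.is.pow]) u hu)
  have k2' : ∀ i j, i ≤ j → ¬ ∀ u ∈ U, bf ((g ^ i) a) u + bf ((g ^ j) a) u = bf x u := fun i j h1 e => by
    obtain ⟨m, rfl⟩ := Nat.exists_eq_add_of_le h1
    have h2 := A.fx2 (hl.odd_of_ne_two (by omega)) (Y := (2 : ℤ) • a - x) (m := m) fun u hu => by
      have h4 := e _ (A.pow_mem (i + m) hu)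
      rw [o2, A.is.pow, o3] at h4
      simp only [bf_sub_left, bf_smul_left, o3]
      omega
    have h4 := h2 u hu
    have h5 := h2 _ (A.mem u hu)
    have h6 := o3 1 u
    simp only [bf_sub_left, bf_smul_left, pow_one] at h4 h5 h6
    omega
  have k2 : ∀ i j, ¬ ∀ u ∈ U, bf (x - (g ^ i) a) u = bf ((g ^ j) a) u := fun i j e => by
    simp only [bf_sub_left] at e
    rcases le_total i j with h | h
    · exact k2' i j h fun u hu => by rw [← e u hu, add_sub_cancel]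
    · exact k2' j i h fun u hu => by rw [← e u hu, sub_add_cancel]
  have k3 : ∀ i j, i ≠ j → i < l → j < l → ¬ ∀ u ∈ U, bf ((g ^ i) a) u = bf ((g ^ j) a) u := fun i j h h1 h2 e =>
    h.lt_or_gt.elim (fun h => k1 i j h h2 e) fun h => k1 j i h h1 fun u hu => (e u hu).symm
  by_cases hU : a ∈ U
  · have : NeZero l := ⟨hl.ne_zero⟩
    have : Fact (1 < l) := ⟨hl.one_lt⟩
    have h1 : ∀ i j : ZMod l, x - (g ^ i.val) a ≠ (g ^ j.val) a := fun i j e => k2 _ _ fun u _ => by rw [e]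
    exact .inr ⟨fun i => (g ^ i.val) a, fun i => (o1 _).1, fun i j h => (o1 _).one (o1 _) F.four (fun e =>
      k3 _ _ (fun e => h (ZMod.val_injective l e)) i.val_lt j.val_lt fun u _ => by rw [e]) (h1 i j).symm, fun i => A.pow_mem _ hU,
      fun i => by rw [ZMod.val_add, ZMod.val_one, A.pow_mod _ hU, pow_succ', Module.End.mul_apply],
      fun r hr => lv_of cl F (fun _ => o1 _) (fun i => A.pow_mem _ hU) h1 hr⟩
  exfalso
  have h1 : ∀ k, (g ^ k) a ∉ U := fun k => by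
    induction k with
    | zero => exact hU
    | succ k ih => exact fun e => ih (A.of_mem hl.pos (by rwa [pow_succ', Module.End.mul_apply] at e))
  obtain ⟨c, hc⟩ := F.good
  have h2 : ∀ t : Fin 3 × Bool, ∃ k, ∀ u ∈ U, bf (if t.2 then (g ^ t.1.1) a else x - (g ^ t.1.1) a) u = bf (c k) u := by
    rintro ⟨i, _ | _⟩
    · exact (hc _ ((o1 i).sub F.four).1 ((o1 i).sub F.four).2).resolve_left fun e => h1 i (by
        simpa using U.sub_mem F.mem e)
    · exact (hc _ (o1 i).1 (o1 i).2).resolve_left (h1 i)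
  choose f hf using h2
  obtain ⟨⟨i, s⟩, ⟨j, t⟩, h4, h5⟩ := Fintype.exists_ne_map_eq_of_card_lt f (by decide)
  have h6 := fun u hu => (hf (i, s) u hu).trans (h5 ▸ (hf (j, t) u hu).symm)
  have h7 : s = t → i.1 ≠ j.1 := fun e e' => h4 (Prod.ext (Fin.ext e') e)
  cases s <;> cases t
  · exact k3 i j (h7 rfl) (by omega) (by omega) fun u hu => by simpa [bf_sub_left] using h6 u hu
  · exact k2 i j h6
  · exact k2 j i fun u hu => (h6 u hu).symm
  · exact k3 i j (h7 rfl) (by omega) (by omega) h6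

end Cfsg.Agent.BZ.B3
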