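import Cfsg.Agent.BZ.L.B3.LatT

/-!
# BZ / B3 : the lattice lemma for the Levi sublattices of `E₈` (helper14)

* `la_of_cl` : the lattice lemma; `isW`, `fix_of` : the isometries are in the Weyl group; `ext7` : extension from `E₇`.
-/

set_option autoImplicit false
set_option linter.unusedSectionVars false

namespace Cfsg.Agent.BZ.B3

open Cfsg Cfsg.Agent.HZ.L.E7 Cfsg.Agent.Tits.Roots Cfsg.Agent.LV.Lab Matrix

variable {l : ℕ} {U U' : Submodule ℤ V} {g : En} {J : ℕ}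

/-- the three kinds -/
def Da (U : Submodule ℤ V) : Prop := Sm U ∨ Sp U ∨ ∃ x, Fm U x

theorem rt_pm {a : V} (h : Rt a) : ∃ x ∈ L8, a ∈ [dg 8 x, -dg 8 x] := by
  simpa only [List.mem_cons, List.not_mem_nil, or_false, neg_eq_iff_eq_neg] using rt_list h

theorem bf_Ci (a c : V) : bf a (Ci *ᵥ c) = a ⬝ᵥ c := by rw [bf, mulVec_mulVec, C8_Ci, one_mulVec]

section std

variable (hU : ∀ v, v ∈ U ↔ ∀ j : Fin 8, J.testBit j → bf (sr j) v = 0)
include hU

theorem bf_std {a b u : V} (hu : u ∈ U) (h : ∀ i : Fin 8, J.testBit i ∨ a i = b i) : bf a u = bf b u := by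
  rw [bf_sum, bf_sum]
  exact Finset.sum_congr rfl fun i _ => (h i).elim (fun e => by rw [bf_comm, (hU u).1 hu i e, mul_zero, mul_zero]) fun e => by rw [e]

theorem da_std (hJ : J < 256) : Da U := by
  rcases ckF J hJ with ⟨p, q, h⟩ | ⟨t, ht, rfl⟩ | ⟨h1, h2, h3, h4, h5⟩
  · refine .inl ⟨sr p, sr q, fun u hu e1 e2 => eq_zero_of_sr fun i => ?_⟩
    rw [bf_comm]
    rcases h i with e | rfl | rfl
    exacts [(hU u).1 hu i e, e1, e2]
  · obtain ⟨h1, h2, h3, h4, h5, h6, h7, h8⟩ := ckS t ht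
    refine .inr (.inl ⟨_, (hU _).2 h1, _, (hU _).2 h2, vc t.2.2.2.1, h3, h4, h5, fun b hb rb e => ?_,
      fun u hu e1 e2 e3 => eq_zero_of_sr fun i => ?_⟩)
    · obtain ⟨y, hy, e'⟩ := rt_pm rb
      exact h6 y hy b e' ((hU b).1 hb) e
    · rw [bf_comm]
      refine (h8 i).elim ((hU u).1 hu i) fun ⟨s, _, e⟩ => ?_
      have h9 := bf_std hU hu e
      simp only [bf_add_left, bf_smul_left, e1, e2, e3, mul_zero, add_zero] at h9
      exact (mul_eq_zero.1 h9).resolve_left h7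
  · generalize TF.getD J (0, []) = t at *
    refine .inr (.inr ⟨Ci *ᵥ vc t.1, (hU _).2 fun j e => ?_, (bf_Ci _ _).trans h2, ?_, fun k => vc (t.2.getD k 0), fun a ra e => ?_⟩)
    · rw [bf_Ci, sr, single_dotProduct, one_mul, h1 j e]
    · obtain ⟨a, ha, e | e⟩ := h3
      exacts [⟨_, rt_dg a ha, (bf_Ci _ _).trans e⟩, ⟨_, (rt_dg a ha).neg, (bf_Ci _ _).trans e⟩]
    · obtain ⟨y, hy, e'⟩ := rt_pm ra
      refine (h5 y hy a e' ((bf_Ci _ _).symm.trans e)).imp (hU a).2 fun ⟨c, hc, e1⟩ => ?_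
      obtain ⟨k, hk, rfl⟩ := List.getElem_of_mem hc
      exact ⟨⟨k, by omega⟩, fun u hu => (bf_std hU hu e1).trans (congrArg (fun c => bf (vc c) u) (List.getD_eq_getElem _ _ hk).symm)⟩

end std

theorem Da.tw (w : W8) (h : ∀ v, v ∈ U ↔ ac w v ∈ U') (d : Da U') : Da U := by
  have h1 : ∀ v, ac w⁻¹ v ∈ U ↔ v ∈ U' := fun v => by rw [h, ac_inv']
  have h2 : ∀ a b, bf (ac w⁻¹ a) b = bf a (ac w b) := fun a b => by rw [bf_ac', inv_inv]
  have h3 : ∀ {u}, ac w u = 0 → u = 0 := fun {u} e => by rw [← ac_inv w u, e, map_zero]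
  rcases d with ⟨p, q, d⟩ | ⟨x, hx, a, ha, z, e1, e2, e3, e4, e5⟩ | ⟨x, F⟩
  · exact .inl ⟨ac w⁻¹ p, ac w⁻¹ q, fun u hu e1 e2 => h3 (d _ ((h u).1 hu) ((h2 _ _).symm.trans e1) ((h2 _ _).symm.trans e2))⟩
  · refine .inr (.inl ⟨_, (h1 x).2 hx, _, (h1 a).2 ha, ac w⁻¹ z, e1.ac _, e2.ac _, (bf_ac _ _ _).trans e3, fun b hb rb e => ?_,
      fun u hu e6 e7 e8 => h3 (e5 _ ((h u).1 hu) ((h2 _ _).symm.trans e6) ((h2 _ _).symm.trans e7) ((h2 _ _).symm.trans e8))⟩)
    exact (e4 _ ((h b).1 hb) (rb.ac w) ((bf_ac' _ _ _).trans e)).imp (fun e => by rw [← e, ac_inv]) fun e => by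
      rw [← map_sub, ← e, ac_inv]
  · obtain ⟨a, ra, ha⟩ := F.ex
    obtain ⟨c, hc⟩ := F.good
    exact .inr (.inr ⟨_, (h1 x).2 F.mem, (bf_ac _ _ _).trans F.four, ⟨_, ra.ac w⁻¹, (bf_ac _ _ _).trans ha⟩,
      fun k => ac w⁻¹ (c k), fun b rb e => (hc _ (rb.ac w) ((bf_ac' _ _ _).trans e)).imp (h b).2 fun ⟨k, hk⟩ =>
        ⟨k, fun u hu => by rw [h2, ← hk _ ((h u).1 hu), bf_ac]⟩⟩)

theorem exists_gen (U : Submodule ℤ V) : ∃ η ∈ U, ∀ r, Rt r → bf r η = 0 → ∀ u ∈ U, bf r u = 0 := by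
  obtain ⟨η, h1, h2⟩ := HZ.L.exists_generic U (finite_rt.image (· ᵥ* C8))
  exact ⟨η, h1, fun r hr e u hu => (dotProduct_mulVec _ _ _).trans (h2 _ ⟨r, hr, rfl⟩ ((dotProduct_mulVec _ _ _).symm.trans e) u hu)⟩

theorem Cl.da (cl : Cl U) : Da U := by
  obtain ⟨η, h1, h2⟩ := exists_gen U
  obtain ⟨w, hw⟩ := dom η
  have h3 : ∀ j : Fin 8, (Nat.ofBits fun j : Fin 8 => decide (bf (ac w η) (sr j) = 0)).testBit j ↔ bf (ac w η) (sr j) = 0 :=
    fun j => by rw [Nat.testBit_ofBits_lt _ _ j.2, decide_eq_true_iff]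
  refine Da.tw w (U' := U.map (ac w)) (fun v => ⟨Submodule.mem_map_of_mem, fun ⟨u, hu, e⟩ => ?_⟩)
    (da_std (fun v => ?_) (Nat.ofBits_lt_two_pow fun j : Fin 8 => decide (bf (ac w η) (sr j) = 0)))
  · rwa [← ac_inv w v, ← e, ac_inv]
  simp only [h3]
  refine ⟨?_, fun e => ⟨ac w⁻¹ v, cl _ fun r hr e1 => ?_, ac_inv' w v⟩⟩
  · rintro ⟨u, hu, rfl⟩ j e
    rw [bf_comm, bf_ac', bf_comm, h2 _ ((rt_sr j).ac _) (by rw [bf_comm, ← bf_ac', e]) u hu]
  · rw [← bf_ac', bf_sum]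
    refine Finset.sum_eq_zero fun i _ => ?_
    by_cases h4 : bf (ac w η) (sr i) = 0
    · rw [bf_comm, e i h4, mul_zero]
    · rw [(perp_iff hw (hr.ac w)).1 ((bf_ac _ _ _).trans (e1 η h1)) i h4, zero_mul]

/-- **the lattice lemma** -/
theorem Cl.la (cl : Cl U) (hl : l.Prime) (h3 : 3 ≤ l) : La l U :=
  cl.da.elim (fun h => h.la cl (hl.odd_of_ne_two (by omega)) h3) fun h => h.elim (fun h => h.la hl h3) fun ⟨_, F⟩ => F.la cl hl h3

/-! ### the isometries -/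

/-- the Weyl vector -/
def rho : V := ![46, 68, 91, 135, 110, 84, 57, 29]

theorem bf_rho (a : V) : bf a rho = ∑ i, a i := by
  rw [bf, show C8 *ᵥ rho = fun _ => 1 by decide +kernel]
  simp only [dotProduct, mul_one]

theorem ht_chk : ∀ x ∈ L8, ∀ s ∈ [dg 8 x, -dg 8 x], ∑ i, s i ≠ 0 ∧ (∑ i, s i = 1 → ∃ j, s = sr j) := by decide +kernel

theorem Is.surj (h : Is g) {a : V} (ha : Rt a) : ∃ b, Rt b ∧ g b = a :=
  ((finite_rt.injOn_iff_bijOn_of_mapsTo fun _ hb => h.rt hb).1 h.inj.injOn).surjOn ha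

theorem sum_sr (v : V) : v = ∑ i, v i • sr i := funext fun j => by simp [sr, Pi.single_apply]

/-- an isometry lies in the Weyl group -/
theorem isW (h : Is g) : ∃ w, ∀ v, g v = ac w v := by
  obtain ⟨w, hw⟩ := dom (g rho)
  have hs : Is (ac w ∘ₗ g) := fun a b => (bf_ac _ _ _).trans (h a b)
  suffices e : ∀ v, (ac w ∘ₗ g) v = v from ⟨w⁻¹, fun v => by rw [← ac_inv w (g v)]; exact congrArg _ (e v)⟩
  replace hw : ∀ i, 0 ≤ bf ((ac w ∘ₗ g) rho) (sr i) := hw
  generalize ac w ∘ₗ g = s at hs hw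
  choose b hb e using fun i => hs.surj (rt_sr i)
  have h0 : ∀ i, bf rho (sr i) = 1 := by decide +kernel
  have h1 : ∀ i, bf (s rho) (sr i) = ∑ j, b i j := fun i => by rw [← e, hs, bf_comm, bf_rho]
  have h2 := fun i => (rt_pm (hb i)).elim fun x hx => ht_chk x hx.1 _ hx.2
  have h3 : s rho = rho := sub_eq_zero.1 (eq_zero_of_bf (by
    have h4 : bf rho rho ≤ bf rho (s rho) := by
      rw [bf_sum, bf_sum]
      refine Finset.sum_le_sum fun i _ => mul_le_mul_of_nonneg_left ?_ ((by decide : ∀ i, 0 ≤ rho i) i)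
      have h5 := hw i
      have h6 := (h2 i).1
      rw [h0]
      rw [← h1] at h6
      omega
    simp only [bf_sub_left, bf_sub_right, hs rho rho, bf_comm (s rho) rho]
    omega))
  choose π hπ using fun i => (h2 i).2 (by rw [← h1, h3, h0])
  have h4 : Function.Bijective π := Finite.injective_iff_bijective.1 fun i j e1 =>
    (by decide : ∀ i j : Fin 8, (sr i : V) = sr j → i = j) i j (by rw [← e i, ← e j, hπ, hπ, e1])
  have h5 : ∀ v, s v = fun i => v (π i) := fun v => by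
    conv_lhs => rw [sum_sr v, ← (Equiv.ofBijective π h4).sum_comp, map_sum]
    refine Eq.trans (Finset.sum_congr rfl fun i _ => ?_) (sum_sr _).symm
    rw [map_smul, Equiv.ofBijective_apply, ← hπ, e]
  have h6 : ∀ i, π i = i := fun i => (show Function.Injective rho by decide) (congrFun ((h5 rho).symm.trans h3) i)
  exact fun v => (h5 v).trans (funext fun i => by rw [h6])

theorem Is.fix_of (h : Is g) (hU : ∀ u ∈ U, g u = u) {v : V} (hv : ∀ r, Rt r → (∀ u ∈ U, bf r u = 0) → bf r v = 0) : g v = v := by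
  obtain ⟨w, hw⟩ := isW h
  obtain ⟨η, h1, h2⟩ := exists_gen U
  obtain ⟨n, hn, h3⟩ := exists_bd η
  rw [hw]
  refine stein (η := η) (μ := 0) hn (by rw [← hw, hU η h1, smul_zero, add_zero]) fun a ha e => hv a ha (h2 a ha ?_)
  rw [bf_comm]
  exact Int.eq_zero_of_abs_lt_dvd e (h3 a ha)

/-- extension of the isometries of `E₇` -/
theorem ext7 {R : Type} [AddCommGroup R] {J : R →+ V} (inj : Function.Injective J) {β : V} (hβ : β = 0 ∨ β = th)
    (img : ∀ x, (∃ y, J y = x) ↔ bf β x = 0) (φ : R →+ R) (iso : ∀ y y', bf (J (φ y)) (J (φ y')) = bf (J y) (J y'))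
    (sur : Function.Surjective φ) : ∃ g : En, Is g ∧ ∀ y, g (J y) = J (φ y) := by
  rcases hβ with rfl | rfl
  · let e := AddEquiv.ofBijective J ⟨inj, fun x => (img x).2 (bf_zero_left x)⟩
    exact ⟨(J.comp (φ.comp e.symm.toAddMonoidHom)).toIntLinearMap, fun a b => (iso _ _).trans
      (congrArg₂ bf (e.apply_symm_apply a) (e.apply_symm_apply b)), fun y => congrArg (fun y => J (φ y)) (e.symm_apply_apply y)⟩
  have h0 : ∀ y, bf th (J y) = 0 := fun y => (img _).1 ⟨y, rfl⟩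
  choose s hs using fun v : V => (img (v - v 7 • sr 7)).2 (by
    rw [bf_comm, bf_th, Pi.sub_apply, Pi.smul_apply, sr_self, smul_eq_mul, mul_one, sub_self])
  have h1 : ∀ v, v = J (s v) + v 7 • sr 7 := fun v => by rw [hs, sub_add_cancel]
  obtain ⟨y, hy⟩ := (img ((2 : ℤ) • sr 7 - th)).2 (by decide +kernel)
  have h2 : ∀ y', bf (J (φ y)) (J (φ y')) = 2 * bf (sr 7) (J y') := fun y' => by
    rw [iso, hy, bf_sub_left, bf_smul_left, h0, sub_zero]
  have h3 : ∀ y', 2 ∣ bf (J (φ y)) (J y') := fun y' => by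
    obtain ⟨y', rfl⟩ := sur y'
    exact ⟨_, h2 y'⟩
  have h4 : bf (J (φ y)) (J (φ y)) = 6 := by rw [iso, hy]; decide +kernel
  have h5 : ¬ 2 ∣ bf (J (φ y)) (sr 7) := fun e => by
    obtain ⟨w, hw⟩ := exists_dvd (n := 2) (x := J (φ y)) fun v => by
      rw [h1 v, bf_add_right, bf_smul_right]
      exact (h3 _).add (e.mul_left _)
    rw [hw, bf_smul_left, bf_smul_right] at h4
    omega
  obtain ⟨z, hz⟩ := exists_dvd (n := 2) (x := J (φ y) + th) fun v => by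
    rw [bf_add_left, bf_comm th, bf_th, h1 v, bf_add_right, bf_smul_right, ← h1 v, add_assoc, ← mul_add_one]
    exact (h3 _).add (Dvd.dvd.mul_left (by omega) _)
  have h6 : ∀ y', bf z (J (φ y')) = bf (sr 7) (J y') := fun y' => by
    have h7 := congrArg (bf · (J (φ y'))) hz
    simp only [bf_add_left, bf_smul_left, h2, h0] at h7
    omega
  have h7 : bf z z = 2 := by
    have h8 := congrArg (fun v => bf v v) hz
    simp only [bf_add_left, bf_add_right, bf_smul_left, bf_smul_right, h4, h0, bf_comm _ th, show bf th th = 2 from rt_th] at h8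
    omega
  have h8 : ∀ a b, s (a + b) = s a + s b := fun a b => inj (by
    rw [map_add, hs, hs, hs, Pi.add_apply, add_smul]
    abel)
  refine ⟨(AddMonoidHom.mk' (fun v => J (φ (s v)) + v 7 • z) fun a b => by
    rw [h8, map_add, map_add, Pi.add_apply, add_smul]
    abel).toIntLinearMap, fun a b => ?_, fun y' => ?_⟩
  · show bf (J (φ (s a)) + a 7 • z) (J (φ (s b)) + b 7 • z) = _
    conv_rhs => rw [h1 a, h1 b]
    simp only [bf_add_left, bf_add_right, bf_smul_left, bf_smul_right, iso, h6, h7, bf_comm (J (φ _)) z, bf_comm (J _) (sr 7),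
      show bf (sr 7) (sr 7) = 2 from rt_sr 7]
  · show J (φ (s (J y'))) + J y' 7 • z = _
    have h9 : J y' 7 = 0 := by rw [← bf_th (J y'), bf_comm, h0]
    rw [show s (J y') = y' from inj (by rw [hs, h9, zero_smul, sub_zero]), h9, zero_smul, add_zero]

end Cfsg.Agent.BZ.B3
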